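import Cfsg.Agent.Lib.SuzukiGroup.Automorphisms
import Cfsg.Agent.Lib.SuzukiGroup.Subfield
import Mathlib.FieldTheory.Fixed

/-!
# Fixed points of automorphisms of order three of the Suzuki groups

For `q = 2^(2m+1)` with `m ≥ 2` every automorphism of order three of `Sz(q)` fixes a subgroup
`Sz(q^(1/3))` elementwise (after conjugation), hence a non-soluble subgroup.
-/

set_option autoImplicit false

open Cfsg.Lie Subgroup
open CfsgLib.SuzukiGroup

namespace CfsgLib.ThreeCentSuz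

/-- The subgroup of points fixed by an automorphism. -/
def fixedSub {T : Type*} [Group T] (α : MulAut T) : Subgroup T :=
  (α : T ≃* T).toMonoidHom.eqLocus (MonoidHom.id T)

theorem mem_fixedSub {T : Type*} [Group T] {α : MulAut T} {x : T} :
    x ∈ fixedSub α ↔ α x = x := Iff.rfl

theorem fixed_map_le {T : Type*} [Group T] (γ β : MulAut T) :
    (fixedSub β).map (γ : T ≃* T).toMonoidHom ≤ fixedSub (γ * β * γ⁻¹) := by
  rintro _ ⟨x, hx, rfl⟩
  show γ (β (γ⁻¹ (γ x))) = γ x
  rw [MulAut.inv_apply_self, mem_fixedSub.1 hx]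

variable {F : Type} [Field F] [Fintype F] [CharP F 2] {m : ℕ}

theorem fieldAut_injective (hm : 1 ≤ m) (hF : Fintype.card F = 2 ^ (2 * m + 1))
    (P : Params F (2 ^ (m + 1))) :
    Function.Injective (fieldAut P) := by
  refine (injective_iff_map_eq_one _).2 fun σ hσ => ?_
  exact eq_one_of_fieldAut_inner hm hF P (g := 1) (hσ.trans (map_one MulAut.conj).symm)

/-- A field automorphism of order three fixes a non-soluble subgroup when `m ≥ 2`. -/
theorem fixed_fieldAut_not_solvable (hm : 2 ≤ m) (hF : Fintype.card F = 2 ^ (2 * m + 1))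
    (P : Params F (2 ^ (m + 1))) {σ : F ≃+* F} (hσ : orderOf σ = 3) :
    ¬ Group.IsSolvable ↥(fixedSub (fieldAut P σ)) := by
  classical
  haveI : Finite (F ≃+* F) :=
    Finite.of_injective (fun s : F ≃+* F => (⇑s : F → F)) DFunLike.coe_injective
  set H : Subgroup (F ≃+* F) := Subgroup.zpowers σ with hH
  letI : Fintype ↥H := Fintype.ofFinite _
  let L : Subfield F := FixedPoints.subfield ↥H F
  letI : Fintype ↥L := Fintype.ofFinite _
  have hrk : Module.finrank ↥L F = 3 := by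
    rw [FixedPoints.finrank_eq_card, ← Nat.card_eq_fintype_card, hH, Nat.card_zpowers, hσ]
  have hcard : Fintype.card F = Fintype.card ↥L ^ 3 := by
    rw [Module.card_eq_pow_finrank (K := ↥L) (V := F), hrk]
  have hL2 : 2 < Fintype.card ↥L := by
    by_contra hle
    have h8 : Fintype.card ↥L ^ 3 ≤ 2 ^ 3 := Nat.pow_le_pow_left (by omega) 3
    have h32 : 2 ^ 5 ≤ Fintype.card F := hF ▸ Nat.pow_le_pow_right (by norm_num) (by omega)
    omega
  have hle : subGroup (e := 2 ^ (m + 1)) L ≤ fixedSub (fieldAut P σ) := by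
    intro g hg
    refine mem_fixedSub.2 (mat_ext ?_)
    show mat (fieldHom P σ g) = mat g
    rw [mat_fieldHom]
    ext i j
    exact ((mem_subGroup L).1 hg i j) ⟨σ, Subgroup.mem_zpowers σ⟩
  intro hsol
  haveI := hsol
  have hs : Group.IsSolvable ↥(Sz ↥L (2 ^ (m + 1))) :=
    solvable_of_solvable_injective
      (f := (Subgroup.inclusion hle).comp (subGroupEquiv P L).toMonoidHom)
      ((Subgroup.inclusion_injective hle).comp (subGroupEquiv P L).injective)
  haveI := isSimple (restrictParams P L) hL2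
  have hcomm := IsSimpleGroup.comm_iff_isSolvable.2 hs
  letI : CommGroup ↥(Sz ↥L (2 ^ (m + 1))) := { mul_comm := hcomm }
  have hp : (Nat.card ↥(Sz ↥L (2 ^ (m + 1)))).Prime := IsSimpleGroup.prime_card
  rw [card_sz (restrictParams P L)] at hp
  rcases hp.eq_one_or_self_of_dvd (Fintype.card ↥L ^ 2) ⟨_, mul_assoc _ _ _⟩ with h | h
  · nlinarith
  · have h1 : 1 < (Fintype.card ↥L - 1) * (Fintype.card ↥L ^ 2 + 1) := by
      have : 1 ≤ Fintype.card ↥L - 1 := by omega
      nlinarith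
    have : 0 < Fintype.card ↥L ^ 2 := by positivity
    nlinarith

/-- Every automorphism of order three is conjugate to a field automorphism. -/
theorem exists_conj_fieldAut (hm : 1 ≤ m) (hF : Fintype.card F = 2 ^ (2 * m + 1))
    (P : Params F (2 ^ (m + 1))) (h3 : ¬ 3 ∣ Nat.card ↥(Sz F (2 ^ (m + 1))))
    {α : MulAut ↥(Sz F (2 ^ (m + 1)))} (hα : orderOf α = 3) :
    ∃ (γ : MulAut ↥(Sz F (2 ^ (m + 1)))) (σ : F ≃+* F),
      orderOf σ = 3 ∧ α = γ * fieldAut P σ * γ⁻¹ := by
  classical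
  haveI : Fact (Nat.Prime 3) := ⟨by norm_num⟩
  haveI : Finite (F ≃+* F) :=
    Finite.of_injective (fun s : F ≃+* F => (⇑s : F → F)) DFunLike.coe_injective
  set 𝔾 := ↥(Sz F (2 ^ (m + 1)))
  haveI : Finite (MulAut 𝔾) :=
    Finite.of_injective (fun s : MulAut 𝔾 => (⇑s : 𝔾 → 𝔾)) DFunLike.coe_injective
  obtain ⟨R⟩ : Nonempty (Sylow 3 (F ≃+* F)) := inferInstance
  have hI : ¬ 3 ∣ Nat.card ↥(Cfsg.Inn 𝔾) := fun hd => h3 (hd.trans ((Subgroup.card_range_dvd _)))
  have hinj := fieldAut_injective hm hF P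
  set S : Subgroup (MulAut 𝔾) := (R : Subgroup (F ≃+* F)).map (fieldAut P) with hS
  have hScard : Nat.card ↥S = 3 ^ (Nat.card (MulAut 𝔾)).factorization 3 := by
    have h1 : Nat.card ↥S = 3 ^ (Nat.card (F ≃+* F)).factorization 3 := by
      rw [← R.card_eq_multiplicity]
      exact (Nat.card_congr (Subgroup.equivMapOfInjective _ _ hinj).toEquiv).symm
    have h2 : Nat.card (MulAut 𝔾) = Nat.card (F ≃+* F) * Nat.card ↥(Cfsg.Inn 𝔾) := by
      rw [Subgroup.card_eq_card_quotient_mul_card_subgroup (Cfsg.Inn 𝔾), ← card_out hm hF P]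
    rw [h1, h2, Nat.factorization_mul Nat.card_pos.ne' Nat.card_pos.ne', Finsupp.add_apply,
      Nat.factorization_eq_zero_of_not_dvd hI, add_zero]
  let Q : Sylow 3 (MulAut 𝔾) := Sylow.ofCard S hScard
  have hpg : IsPGroup 3 ↥(Subgroup.zpowers α) :=
    IsPGroup.of_card (n := 1) (by rw [Nat.card_zpowers, hα, pow_one])
  obtain ⟨Q', hQ'⟩ := hpg.exists_le_sylow
  obtain ⟨γ, rfl⟩ := MulAction.exists_smul_eq (MulAut 𝔾) Q Q'
  obtain ⟨β, hβ, hαβ⟩ := Subgroup.mem_map.1
    (hQ' (Subgroup.mem_zpowers α) : α ∈ (S.map (MulAut.conj γ).toMonoidHom))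
  obtain ⟨σ, -, rfl⟩ := hβ
  refine ⟨γ, σ, ?_, hαβ.symm⟩
  rw [← hα, ← hαβ]
  exact ((orderOf_injective (MulAut.conj γ).toMonoidHom (MulAut.conj γ).injective _).trans
    (orderOf_injective (fieldAut P) hinj σ)).symm

/-- An automorphism of order three of `Sz(q)`, `q ≥ 32`, has non-soluble fixed point subgroup. -/
theorem fixed_not_solvable (hm : 2 ≤ m) (hF : Fintype.card F = 2 ^ (2 * m + 1))
    (P : Params F (2 ^ (m + 1))) (h3 : ¬ 3 ∣ Nat.card ↥(Sz F (2 ^ (m + 1))))
    {α : MulAut ↥(Sz F (2 ^ (m + 1)))} (hα : orderOf α = 3) :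
    ¬ Group.IsSolvable ↥(fixedSub α) := by
  obtain ⟨γ, σ, hσ, rfl⟩ := exists_conj_fieldAut (by omega) hF P h3 hα
  intro hsol
  haveI := hsol
  refine fixed_fieldAut_not_solvable hm hF P hσ ?_
  exact solvable_of_solvable_injective
    (f := (Subgroup.inclusion (fixed_map_le γ (fieldAut P σ))).comp
      (Subgroup.equivMapOfInjective _ (γ : ↥(Sz F (2 ^ (m + 1))) ≃* _).toMonoidHom γ.injective).toMonoidHom)
    ((Subgroup.inclusion_injective (fixed_map_le γ (fieldAut P σ))).comp (MulEquiv.injective _))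

end CfsgLib.ThreeCentSuz
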