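import Cfsg.Agent.Lib.ThreeCentSuz.Fixed
import Cfsg.Agent.Lib.SuzukiGroup.Multiplier
import Cfsg.Agent.Lib.Components.Basic
import Cfsg.Agent.Lib.PCore.Basic
import Cfsg.Prelude.Def_Sz

/-!
# A component of order prime to three and an element of order three with soluble centraliser

Modulo the classification of the simple groups of order prime to three (`hTF`): the component is
normalised by the element, its central quotient is `Sz(8)`, and it is simple when `O₂(G) = 1`.
-/

set_option autoImplicit false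

open Subgroup
open scoped commutatorElement

namespace CfsgLib.ThreeCentSuz

universe u

variable {G : Type u} [Group G] [Finite G]

/-- An element of order three moving a component centralises a non-soluble subgroup. -/
theorem mem_normalizer_of_solvable_centralizer {K : Subgroup G} (hK : Cfsg.IsComponent K)
    {y : G} (hy : orderOf y = 3) (hsol : Group.IsSolvable ↥(centralizer ({y} : Set G))) :
    y ∈ normalizer (K : Set G) := by
  by_contra hn
  have hy3 : y ^ 3 = 1 := hy ▸ pow_orderOf_eq_one y
  set c := MulAut.conj y with hc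
  set K₁ := K.map c.toMonoidHom with hK₁
  set K₂ := K₁.map c.toMonoidHom with hK₂
  have hmap3 : K₂.map c.toMonoidHom = K := by
    ext x
    simp only [hK₂, hK₁, Subgroup.map_map, Subgroup.mem_map]
    have hc3 : ∀ k : G, c (c (c k)) = k := by
      intro k
      rw [← MulAut.mul_apply, ← MulAut.mul_apply, hc, ← map_mul, ← map_mul,
        (pow_three' y).symm, hy3, map_one]
      rfl
    constructor
    · rintro ⟨k, hk, rfl⟩
      exact (hc3 k).symm ▸ hk
    · exact fun hx => ⟨x, hx, hc3 x⟩
  have hne₁ : K₁ ≠ K := fun e => hn (mem_normalizer_iff.2 fun h => by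
    refine ⟨fun hh => e ▸ ⟨h, hh, rfl⟩, fun hh => ?_⟩
    have hh' : y * h * y⁻¹ ∈ K₁ := e.symm ▸ hh
    obtain ⟨k, hk, hke⟩ := hh'
    exact c.injective hke ▸ hk)
  have hinj : Function.Injective (Subgroup.map (G := G) c.toMonoidHom) :=
    Subgroup.map_injective c.injective
  have hne₂ : K₂ ≠ K := fun e => hne₁ ((congrArg (Subgroup.map c.toMonoidHom) e).symm.trans hmap3)
  have hne₁₂ : K₁ ≠ K₂ := fun e => hne₁ (hinj e).symm
  have h1 := CfsgLib.Components.isComponent_conj y hK
  have h2 : Cfsg.IsComponent K₂ := CfsgLib.Components.isComponent_conj y h1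
  have comm : ∀ {A B : Subgroup G}, Cfsg.IsComponent A → Cfsg.IsComponent B → A ≠ B →
      ∀ a ∈ A, ∀ b ∈ B, a * b = b * a := fun hA hB hAB a ha b hb =>
    CfsgLib.Components.commute_of_commutator_eq_bot
      (CfsgLib.Components.commutator_components_eq_bot hA hB hAB) ha hb
  have m1 : ∀ k ∈ K, c k ∈ K₁ := fun k hk => ⟨k, hk, rfl⟩
  have m2 : ∀ k ∈ K, c (c k) ∈ K₂ := fun k hk => ⟨c k, m1 k hk, rfl⟩
  let φ : ↥K →* G :=
    { toFun := fun k => (k : G) * c k * c (c k)
      map_one' := by simp
      map_mul' := fun a b => by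
        have e1 := comm hK h1 (Ne.symm hne₁) b b.2 (c a) (m1 a a.2)
        have e2 := comm hK h2 (Ne.symm hne₂) b b.2 (c (c a)) (m2 a a.2)
        have e3 := comm h1 h2 hne₁₂ (c b) (m1 b b.2) (c (c a)) (m2 a a.2)
        simp only [Subgroup.coe_mul, map_mul]
        calc (a : G) * b * (c a * c b) * (c (c a) * c (c b))
            = (a : G) * ((b : G) * c a) * (c b * c (c a)) * c (c b) := by group
          _ = (a : G) * (c a * (b : G)) * (c (c a) * c b) * c (c b) := by rw [e1, e3]
          _ = (a : G) * c a * ((b : G) * c (c a)) * c b * c (c b) := by group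
          _ = (a : G) * c a * (c (c a) * (b : G)) * c b * c (c b) := by rw [e2]
          _ = _ := by group }
  have hrange : φ.range ≤ centralizer ({y} : Set G) := by
    rintro _ ⟨k, rfl⟩
    rw [mem_centralizer_singleton_iff]
    have hcy : c (φ k) = φ k := by
      show c ((k : G) * c k * c (c k)) = (k : G) * c k * c (c k)
      have hc3 : c (c (c k)) = (k : G) := by
        rw [← MulAut.mul_apply, ← MulAut.mul_apply, hc, ← map_mul, ← map_mul,
          (pow_three' y).symm, hy3, map_one]
        rfl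
      rw [map_mul, map_mul, hc3]
      have e1 := comm hK h1 (Ne.symm hne₁) k k.2 (c k) (m1 k k.2)
      have e2 := comm hK h2 (Ne.symm hne₂) k k.2 (c (c k)) (m2 k k.2)
      rw [mul_assoc, ← e2, ← mul_assoc, ← e1]
    rw [hc, MulAut.conj_apply] at hcy
    calc φ k * y = (y * φ k * y⁻¹) * y := by rw [hcy]
      _ = y * φ k := by group
  have hker : φ.ker ≤ center ↥K := by
    intro k hk
    rw [mem_center_iff]
    intro x
    apply Subtype.ext
    have hk' : (k : G) = (c (c k))⁻¹ * (c k)⁻¹ := by
      have : (k : G) * c k * c (c k) = 1 := hk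
      rw [← mul_inv_rev]; exact eq_inv_of_mul_eq_one_left (by rw [← mul_assoc]; exact this)
    have e1 := comm hK h1 (Ne.symm hne₁) x x.2 (c k)⁻¹ (inv_mem (m1 k k.2))
    have e2 := comm hK h2 (Ne.symm hne₂) x x.2 (c (c k))⁻¹ (inv_mem (m2 k k.2))
    show (x : G) * k = k * x
    rw [hk', ← mul_assoc, e2, mul_assoc, e1, ← mul_assoc]
  refine CfsgLib.Components.component_not_isSolvable hK ?_
  haveI := hsol
  haveI : Group.IsSolvable ↥φ.range :=
    solvable_of_solvable_injective (Subgroup.inclusion_injective hrange)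
  refine solvable_of_ker_le_range φ.ker.subtype φ.rangeRestrict ?_ (hG' := ?_) (hG'' := ?_)
  · rw [MonoidHom.ker_rangeRestrict, range_subtype]
  · exact isSolvable_of_comm fun a b => Subtype.ext (mem_center_iff.1 (hker b.2) a)
  · infer_instance

/-- `k ↦ k⁻¹ (y k y⁻¹)` is multiplicative on the elements it sends into the centre. -/
theorem centralizes_of_central_twist {K : Subgroup G} (f : ↥K →* ↥K) {H : Subgroup ↥K}
    (hH : ∀ k ∈ H, k⁻¹ * f k ∈ center ↥K) : ∀ k ∈ ⁅H, H⁆, f k = k := by
  let ψ : ↥H →* ↥(center ↥K) :=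
    { toFun := fun k => ⟨(k : ↥K)⁻¹ * f k, hH k k.2⟩
      map_one' := Subtype.ext (by simp)
      map_mul' := fun a b => Subtype.ext (by
        have := mem_center_iff.1 (hH a a.2) (b : ↥K)⁻¹
        simp only [Subgroup.coe_mul, map_mul, mul_inv_rev]
        calc (b : ↥K)⁻¹ * (a : ↥K)⁻¹ * (f a * f b) = ((b : ↥K)⁻¹ * ((a : ↥K)⁻¹ * f a)) * f b := by group
          _ = ((a : ↥K)⁻¹ * f a * (b : ↥K)⁻¹) * f b := by rw [this]
          _ = _ := by group) }
  letI : CommGroup ↥(center ↥K) := { mul_comm := fun a b => Subtype.ext (mem_center_iff.1 b.2 a) }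
  intro k hk
  rw [← map_subtype_commutator] at hk
  obtain ⟨k', hk', rfl⟩ := hk
  have h := congrArg Subtype.val (MonoidHom.mem_ker.1 (Abelianization.commutator_subset_ker ψ hk'))
  exact (inv_mul_eq_one.1 h).symm

theorem main (hTF : ∀ (L : Type u) [Group L] [Finite L], IsSimpleGroup L → ¬ IsMulCommutative L →
      ¬ 3 ∣ Nat.card L → Cfsg.Lie.IsoSuzuki L)
    (K : Subgroup G) (hK : Cfsg.IsComponent K) (h3 : ¬ 3 ∣ Nat.card ↥K) (y : G)
    (hy : orderOf y = 3) (hsol : Group.IsSolvable ↥(centralizer ({y} : Set G))) :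
    (∃ (F : Type) (_ : Field F) (_ : Fintype F), Fintype.card F = 8 ∧
        Nonempty (↥K ⧸ center ↥K ≃* ↥(Cfsg.Lie.Sz F 4))) ∧
      y ∈ normalizer (K : Set G) ∧ (Cfsg.pCore 2 G = ⊥ → IsSimpleGroup ↥K) := by
  have hyK := mem_normalizer_of_solvable_centralizer hK hy hsol
  set T := ↥K ⧸ center ↥K
  haveI hTs : IsSimpleGroup T := hK.2.2
  have hKperf : commutator ↥K = ⊤ := CfsgLib.Components.quasisimple_commutator_eq_top hK.2
  have hTnc : ¬ IsMulCommutative T := by
    intro hc
    refine CfsgLib.Components.component_not_isSolvable hK ?_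
    haveI : Group.IsSolvable T := isSolvable_of_comm fun a b => hc.is_comm.comm a b
    refine solvable_of_ker_le_range (center ↥K).subtype (QuotientGroup.mk' (center ↥K)) ?_
      (hG' := ?_) (hG'' := ?_)
    · rw [QuotientGroup.ker_mk', range_subtype]
    · exact isSolvable_of_comm fun a b => Subtype.ext (mem_center_iff.1 b.2 a)
    · infer_instance
  have hT3 : ¬ 3 ∣ Nat.card T := fun h => h3 (h.trans (Subgroup.card_quotient_dvd_card _))
  obtain ⟨F, hFf, hFt, m, hm, hF, ⟨ψ⟩⟩ := hTF T hTs hTnc hT3
  obtain ⟨hC2, ⟨P⟩⟩ := CfsgLib.SuzukiGroup.exists_params hF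
  haveI := hC2
  -- conjugation by y
  have hn : ∀ k : ↥K, y * (k : G) * y⁻¹ ∈ K := fun k => (mem_normalizer_iff.1 hyK k).1 k.2
  let f : ↥K →* ↥K :=
    { toFun := fun k => ⟨y * k * y⁻¹, hn k⟩
      map_one' := Subtype.ext (by simp)
      map_mul' := fun a b => Subtype.ext (by simp [mul_assoc]) }
  have hf3 : ∀ k, f (f (f k)) = k := fun k => Subtype.ext (by
    show y * (y * (y * (k : G) * y⁻¹) * y⁻¹) * y⁻¹ = k
    calc _ = y * y * y * (k : G) * (y * y * y)⁻¹ := by group
      _ = _ := by rw [← pow_three', ← hy, pow_orderOf_eq_one]; simp)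
  let e : ↥K ≃* ↥K :=
    { f with
      invFun := fun k => f (f k)
      left_inv := hf3
      right_inv := hf3 }
  have he : (center ↥K).map e.toMonoidHom = center ↥K :=
    Subgroup.characteristic_iff_map_eq.1 inferInstance e
  let αT : MulAut T := QuotientGroup.congr (center ↥K) (center ↥K) e he
  have hαT : ∀ k : ↥K, αT (QuotientGroup.mk k) = QuotientGroup.mk (f k) := fun k => rfl
  let α : MulAut ↥(Cfsg.Lie.Sz F (2 ^ (m + 1))) := (ψ.symm.trans αT).trans ψ
  have hα3 : α ^ 3 = 1 := by
    ext x : 1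
    obtain ⟨k, hk⟩ := QuotientGroup.mk_surjective (ψ.symm x)
    show ψ (αT (ψ.symm (ψ (αT (ψ.symm (ψ (αT (ψ.symm x)))))))) = x
    rw [MulEquiv.symm_apply_apply, MulEquiv.symm_apply_apply, ← hk, hαT, hαT, hαT, hf3, hk,
      MulEquiv.apply_symm_apply]
  have hcent : ∀ {k : ↥K}, f k = k → (k : G) ∈ centralizer ({y} : Set G) := by
    intro k hk
    have h := congrArg Subtype.val hk
    rw [mem_centralizer_singleton_iff]
    calc (k : G) * y = y * (k : G) * y⁻¹ * y := by rw [show y * (k : G) * y⁻¹ = k from h]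
      _ = y * k := by group
  have htwist : ∀ k : ↥K, αT (QuotientGroup.mk k) = QuotientGroup.mk k →
      k⁻¹ * f k ∈ center ↥K := fun k hk => (QuotientGroup.eq.1 (hk.symm.trans (hαT k)))
  have hα1 : α ≠ 1 := by
    intro h1
    have hfix : ∀ t : T, αT t = t := fun t => ψ.injective (by
      have := congrArg (fun a : MulAut _ => a (ψ t)) h1
      simpa [α] using this)
    refine CfsgLib.Components.component_not_isSolvable hK ?_
    haveI := hsol
    refine solvable_of_solvable_injective
      (f := Subgroup.inclusion (H := K) (K := centralizer ({y} : Set G)) fun k hk => ?_)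
      (Subgroup.inclusion_injective _)
    have hk' : (⟨k, hk⟩ : ↥K) ∈ ⁅(⊤ : Subgroup ↥K), (⊤ : Subgroup ↥K)⁆ := by
      rw [show ⁅(⊤ : Subgroup ↥K), (⊤ : Subgroup ↥K)⁆ = ⊤ from hKperf]; trivial
    exact hcent (centralizes_of_central_twist f (H := ⊤) (fun j _ => htwist j (hfix _)) _ hk')
  haveI : Fact (Nat.Prime 3) := ⟨by norm_num⟩
  have hαord : orderOf α = 3 := orderOf_eq_prime hα3 hα1
  -- hence m = 1
  have hm1 : m = 1 := by
    by_contra hne
    have hS3 : ¬ 3 ∣ Nat.card ↥(Cfsg.Lie.Sz F (2 ^ (m + 1))) := by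
      rwa [← Nat.card_congr ψ.toEquiv]
    refine fixed_not_solvable (by omega) hF P hS3 hαord ?_
    let π : ↥K →* ↥(Cfsg.Lie.Sz F (2 ^ (m + 1))) :=
      ψ.toMonoidHom.comp (QuotientGroup.mk' (center ↥K))
    set H := (fixedSub α).comap π with hH
    have hHt : ∀ k ∈ H, k⁻¹ * f k ∈ center ↥K := fun k hk => htwist k (by
      have h := mem_fixedSub.1 (Subgroup.mem_comap.1 hk)
      have h' : ψ (αT (ψ.symm (ψ (QuotientGroup.mk k)))) = ψ (QuotientGroup.mk k) := h
      rw [MulEquiv.symm_apply_apply] at h'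
      exact ψ.injective h')
    haveI := hsol
    haveI hH' : Group.IsSolvable ↥H := by
      have hle : (⁅H, H⁆).map K.subtype ≤ centralizer ({y} : Set G) := by
        rintro _ ⟨k, hk, rfl⟩
        exact hcent (centralizes_of_central_twist f hHt k hk)
      haveI : Group.IsSolvable ↥⁅H, H⁆ := solvable_of_solvable_injective
        (f := (Subgroup.inclusion hle).comp
          (Subgroup.equivMapOfInjective _ K.subtype K.subtype_injective).toMonoidHom)
        ((Subgroup.inclusion_injective hle).comp (MulEquiv.injective _))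
      haveI : Group.IsSolvable ↥(commutator ↥H) := solvable_of_solvable_injective
        (f := (Subgroup.inclusion (le_of_eq (Subgroup.map_subtype_commutator H))).comp
          (Subgroup.equivMapOfInjective _ H.subtype H.subtype_injective).toMonoidHom)
        ((Subgroup.inclusion_injective (le_of_eq (Subgroup.map_subtype_commutator H))).comp
          (MulEquiv.injective _))
      refine solvable_of_ker_le_range (commutator ↥H).subtype Abelianization.of ?_
        (hG' := inferInstance) (hG'' := ?_)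
      · rw [Abelianization.ker_of, range_subtype]
      · exact isSolvable_of_comm fun a b => mul_comm a b
    exact solvable_of_surjective (f := π.subgroupComap (fixedSub α))
      (π.subgroupComap_surjective_of_surjective _ (ψ.surjective.comp QuotientGroup.mk_surjective))
  subst hm1
  refine ⟨⟨F, hFf, hFt, by rw [hF]; norm_num, ⟨ψ⟩⟩, hyK, fun hO2 => ?_⟩
  -- the centre is a 2-group
  have hZ2 : IsPGroup 2 ↥(center ↥K) := by
    rw [IsPGroup.iff_card]
    refine ⟨_, Nat.eq_prime_pow_of_unique_prime_dvd Nat.card_pos.ne' fun {p} hp hd => ?_⟩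
    by_contra hp2
    haveI : Fact p.Prime := ⟨hp⟩
    obtain ⟨z, hz⟩ := exists_prime_orderOf_dvd_card' p hd
    obtain ⟨S⟩ : Nonempty (Sylow p T) := inferInstance
    have hScyc : IsCyclic ↥(S : Subgroup T) := by
      obtain ⟨S', hS'⟩ := IsPGroup.exists_le_sylow (p := p)
        (S.2.map ψ.toMonoidHom)
      haveI := CfsgLib.SuzukiGroup.sylow_odd_cyclic P hF le_rfl hp2 S'
      exact isCyclic_of_injective
        ((Subgroup.inclusion hS').comp (Subgroup.equivMapOfInjective _ ψ.toMonoidHom ψ.injective).toMonoidHom)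
        ((Subgroup.inclusion_injective hS').comp (MulEquiv.injective _))
    have h1 := CfsgLib.Schur.noMultiplierAt_of_cyclic S hScyc ↥K (QuotientGroup.mk' (center ↥K))
      ⟨QuotientGroup.mk'_surjective _, (QuotientGroup.ker_mk' _).le,
        by rw [hKperf]; exact le_top⟩
      (z : ↥K) (by rw [QuotientGroup.ker_mk']; exact z.2)
      (by rw [← hz, ← Subgroup.orderOf_coe, pow_orderOf_eq_one])
    have : orderOf z = 1 := by rw [orderOf_eq_one_iff]; exact Subtype.ext h1
    have := hp.one_lt
    omega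
  have hsub : ((center ↥K).map K.subtype).IsSubnormal :=
    Subgroup.IsSubnormal.trans' (Subgroup.Normal.isSubnormal inferInstance) hK.1
  have hbot : (center ↥K).map K.subtype = ⊥ :=
    le_bot_iff.1 (hO2 ▸ CfsgLib.PCore.le_pCore_of_isSubnormal hsub (hZ2.map _))
  have hc : center ↥K = ⊥ := (Subgroup.map_eq_bot_iff_of_injective _ K.subtype_injective).1 hbot
  haveI := CfsgLib.Components.quasisimple_nontrivial hK.2
  exact IsSimpleGroup.isSimpleGroup_of_surjective (f := ((QuotientGroup.quotientMulEquivOfEq hc).trans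
    QuotientGroup.quotientBot).toMonoidHom) (MulEquiv.surjective _)

end CfsgLib.ThreeCentSuz
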